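/-
Codes for small matrices over the fields with 23, 32 and 121 elements.
-/
import Cfsg.Agent.J4y.Id
import Cfsg.Agent.Unit.Order
import Cfsg.Agent.Lin.Basic

set_option autoImplicit false
set_option maxRecDepth 100000
set_option linter.unusedSectionVars false

namespace CA.J4y

open CA.M24 CA.J4x Cfsg Subgroup Matrix

noncomputable section

/-- powers on codes -/
def pwC (mul : ℕ → ℕ → ℕ) (one W n : ℕ) : ℕ := Nat.rec (motive := fun _ => ℕ) one (fun _ a => force a (mul W)) n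

/-- the element given by a word has prime order -/
def ordC (mul : ℕ → ℕ → ℕ) (one : ℕ) (ok nok : ℕ → Bool) (gs : List ℕ) (k u p : ℕ) : Bool :=
  force (ev mul one gs k u) fun a => band (nok a) (force (pwC mul one a p) ok)

namespace Cd
variable {Γ : Type*} [Group Γ] {mul : ℕ → ℕ → ℕ} {one : ℕ} {ok nok : ℕ → Bool} {C : Cd Γ mul one ok} {g : Γ} {A : ℕ}

theorem pw (a : C.R g A) : ∀ n, C.R (g ^ n) (pwC mul one A n)
  | 0 => pow_zero g ▸ C.r1
  | n + 1 => by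
    show C.R _ (force _ (mul A))
    rw [force_eq, pow_succ']
    exact C.rm a (pw a n)

theorem ord (hn : ∀ {g A}, C.R g A → nok A = true → g ≠ 1) {v : ℕ → Γ} {gs : List ℕ} (h : ∀ l, C.R (v l) (getL gs one l))
    {k u p : ℕ} (hp : p.Prime) (e : ordC mul one ok nok gs k u p = true) : orderOf (pr v k u) = p := by
  simp only [ordC, force_eq, band_eq_true] at e
  have := Fact.mk hp
  exact orderOf_eq_prime (C.ro (pw (ev_spec h k u) p) e.2) (hn (ev_spec h k u) e.1)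

end Cd

section
variable {S n R : Type*} [Group S] [Fintype n] [DecidableEq n] [CommRing R]

/-- codes for a central quotient of a matrix group -/
def cdQ (ι : S →* Matrix n n R) (hι : Function.Injective ι) (t : ℕ → Matrix n n R) {mul : ℕ → ℕ → ℕ} {one : ℕ} {ok : ℕ → Bool}
    (hm : ∀ A B, t (mul A B) = t A * t B) (h1 : t one = 1) (hs : ∀ A, ok A = true → ∃ c : R, t A = c • 1) :
    Cd (S ⧸ center S) mul one ok where
  R g A := ∃ h : S, (h : S ⧸ center S) = g ∧ ι h = t A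
  r1 := ⟨1, rfl, by rw [map_one, h1]⟩
  rm := fun ⟨a, b, c⟩ ⟨d, e, f⟩ => ⟨a * d, by rw [← b, ← e]; rfl, by rw [map_mul, c, f, hm]⟩
  ro := fun ⟨a, b, c⟩ e => by
    obtain ⟨r, hr⟩ := hs _ e
    rw [← b, QuotientGroup.eq_one_iff, mem_center_iff]
    exact fun k => hι (by simp [c, hr])

theorem cdQ_ne {ι : S →* Matrix n n R} {t : ℕ → Matrix n n R} {mul : ℕ → ℕ → ℕ} (hm : ∀ A B, t (mul A B) = t A * t B)
    {g : S ⧸ center S} {A B : ℕ} (a : ∃ h : S, (h : S ⧸ center S) = g ∧ ι h = t A) (b : ∃ k, ι k = t B)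
    (e : t (mul A B) ≠ t (mul B A)) : g ≠ 1 := by
  obtain ⟨h, rfl, c⟩ := a
  obtain ⟨k, d⟩ := b
  rw [Ne, QuotientGroup.eq_one_iff, mem_center_iff]
  exact fun f => e (by rw [hm, hm, ← c, ← d, ← map_mul, ← map_mul, f])

end

/-- an entry of a packed matrix -/
def e8 (A i : ℕ) : ℕ := Nat.land (Nat.shiftRight A (Nat.mul (nat_lit 8) i)) (nat_lit 255)
def pk (a b : ℕ) : ℕ := Nat.add a (Nat.mul (nat_lit 256) b)

theorem e8_zero {a : ℕ} (h : a < 256) (b : ℕ) : e8 (pk a b) 0 = a := by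
  show (a + 256 * b) >>> (8 * 0) &&& (2 ^ 8 - 1) = a
  rw [Nat.and_two_pow_sub_one_eq_mod, Nat.shiftRight_eq_div_pow]; omega

theorem e8_succ {a : ℕ} (h : a < 256) (b i : ℕ) : e8 (pk a b) (i + 1) = e8 b i := by
  show (a + 256 * b) >>> (8 * (i + 1)) &&& 255 = b >>> (8 * i) &&& 255
  rw [mul_add, add_comm (8 * i), Nat.shiftRight_add, Nat.shiftRight_eq_div_pow _ (8 * 1), show (a + 256 * b) / 2 ^ (8 * 1) = b by omega]

def d2 (fm fa : ℕ → ℕ → ℕ) (A B i j : ℕ) : ℕ := fa (fm (e8 A i) (e8 B j)) (fm (e8 A (Nat.succ i)) (e8 B (Nat.add j 2)))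
def m2 (fm fa : ℕ → ℕ → ℕ) (A B : ℕ) : ℕ := pk (d2 fm fa A B 0 0) (pk (d2 fm fa A B 0 1) (pk (d2 fm fa A B 2 0) (pk (d2 fm fa A B 2 1) 0)))
def d3 (fm fa : ℕ → ℕ → ℕ) (A B i j : ℕ) : ℕ := fa (fa (fm (e8 A i) (e8 B j)) (fm (e8 A (Nat.succ i)) (e8 B (Nat.add j 3))))
  (fm (e8 A (Nat.add i 2)) (e8 B (Nat.add j 6)))
def m3 (fm fa : ℕ → ℕ → ℕ) (A B : ℕ) : ℕ := pk (d3 fm fa A B 0 0) (pk (d3 fm fa A B 0 1) (pk (d3 fm fa A B 0 2)
  (pk (d3 fm fa A B 3 0) (pk (d3 fm fa A B 3 1) (pk (d3 fm fa A B 3 2) (pk (d3 fm fa A B 6 0) (pk (d3 fm fa A B 6 1)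
    (pk (d3 fm fa A B 6 2) 0))))))))
def ok2 (A : ℕ) : Bool := Nat.beq A (Nat.mul (e8 A 0) (nat_lit 0x1000001))
def ok3 (A : ℕ) : Bool := Nat.beq A (Nat.mul (e8 A 0) (nat_lit 0x10000000100000001))

section
variable {R : Type*} [CommRing R] (φ : ℕ → R)

def t2 (A : ℕ) : Matrix (Fin 2) (Fin 2) R := !![φ (e8 A 0), φ (e8 A 1); φ (e8 A 2), φ (e8 A 3)]
def t3 (A : ℕ) : Matrix (Fin 3) (Fin 3) R :=
  !![φ (e8 A 0), φ (e8 A 1), φ (e8 A 2); φ (e8 A 3), φ (e8 A 4), φ (e8 A 5); φ (e8 A 6), φ (e8 A 7), φ (e8 A 8)]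

variable {φ} {fm fa : ℕ → ℕ → ℕ}

theorem t2_mul (hm : ∀ a b, φ (fm a b) = φ a * φ b) (ha : ∀ a b, φ (fa a b) = φ a + φ b) (hl : ∀ a b, fa a b < 256) (A B : ℕ) :
    t2 φ (m2 fm fa A B) = t2 φ A * t2 φ B := by
  simp only [t2, m2, d2, e8_zero (hl _ _), e8_succ (hl _ _), ha, hm, mul_fin_two]

theorem t3_mul (hm : ∀ a b, φ (fm a b) = φ a * φ b) (ha : ∀ a b, φ (fa a b) = φ a + φ b) (hl : ∀ a b, fa a b < 256) (A B : ℕ) :
    t3 φ (m3 fm fa A B) = t3 φ A * t3 φ B := by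
  simp only [t3, m3, d3, e8_zero (hl _ _), e8_succ (hl _ _), ha, hm, mul_fin_three]

theorem e8_lt (A i : ℕ) : e8 A i < 256 := Nat.lt_succ_of_le Nat.and_le_right

theorem t2_ok (h0 : φ 0 = 0) (A : ℕ) (h : ok2 A = true) : ∃ c : R, t2 φ A = c • 1 := by
  have a := e8_lt A 0
  have e : A = pk (e8 A 0) (pk 0 (pk 0 (pk (e8 A 0) 0))) := (beq_iff.1 h).trans (by simp only [pk, Nat.add_eq, Nat.mul_eq]; omega)
  generalize e8 A 0 = c at a e
  refine ⟨φ c, ?_⟩
  simp only [e, t2, e8_zero a, e8_succ a, e8_zero (show 0 < 256 by norm_num), e8_succ (show 0 < 256 by norm_num), h0]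
  ext i j; fin_cases i <;> fin_cases j <;> simp

theorem t3_ok (h0 : φ 0 = 0) (A : ℕ) (h : ok3 A = true) : ∃ c : R, t3 φ A = c • 1 := by
  have a := e8_lt A 0
  have e : A = pk (e8 A 0) (pk 0 (pk 0 (pk 0 (pk (e8 A 0) (pk 0 (pk 0 (pk 0 (pk (e8 A 0) 0)))))))) :=
    (beq_iff.1 h).trans (by simp only [pk, Nat.add_eq, Nat.mul_eq]; omega)
  generalize e8 A 0 = c at a e
  refine ⟨φ c, ?_⟩
  simp only [e, t3, e8_zero a, e8_succ a, e8_zero (show 0 < 256 by norm_num), e8_succ (show 0 < 256 by norm_num), h0]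
  ext i j; fin_cases i <;> fin_cases j <;> simp

end

/-! The field with 23 elements. -/

def fa23 (a b : ℕ) : ℕ := Nat.mod (Nat.add a b) (nat_lit 23)
def mu23 : ℕ → ℕ → ℕ := m2 Nat.mul fa23
def t23 : ℕ → Matrix (Fin 2) (Fin 2) (ZMod 23) := t2 Nat.cast

theorem t23_mul (A B : ℕ) : t23 (mu23 A B) = t23 A * t23 B :=
  t2_mul Nat.cast_mul (fun a b => (ZMod.natCast_mod (a + b) 23).trans (Nat.cast_add a b))
    (fun a b => (Nat.mod_lt (a + b) (by norm_num : 0 < 23)).trans (by norm_num)) A B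

def cd23 : Cd (GL (Fin 2) (ZMod 23) ⧸ center (GL (Fin 2) (ZMod 23))) mu23 0x1000001 ok2 :=
  cdQ (Units.coeHom _) Units.val_injective t23 t23_mul (by decide +kernel) (t2_ok Nat.cast_zero)

theorem in23 {A : ℕ} (h : (t23 A).det ≠ 0) : ∃ k, Units.coeHom _ k = t23 A :=
  have := Fact.mk (by norm_num : Nat.Prime 23)
  ⟨GeneralLinearGroup.mkOfDetNeZero _ h, rfl⟩

/-! The field with 32 elements. -/

/-- the field with 32 elements, `X ^ 5 = X ^ 2 + 1`, elements written in binary -/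
def F32 : Type := Fin 32

def fm32 (a b : ℕ) : ℕ := Nat.mod (Nat.shiftRight (nat_lit 0x935360fb458b95517726a2df03e383ba19326fe06ce8ad107d363e18bd16d945c64aab839373e7c04d2cb93db0d1cb80f3c355ea88b1d3c90db17fa0b29774d6886c60c939f32e704d18fbf087f0f7800ea491662a3f28f27eec6dbc5757a65c30344f60f11f5c8d128283bbb4dc162692fe8e65ba75c740d0db48a0df657623fa099a89dc05f62f24b75f202f60854be7d8dd6a3039e11319acde16aef6d70089b4d3c19bc3e64764b21d11fa8bc957436e2ee0760f1e2aa37e4d0eae82668b3f22e16ec92fa6c057cb0a076e99b896e057ea2471d9992457ed3ea0a870c7ec562413df2a6791beb470b11dddacb6801443225cf4775be46d78d272ae3fecb16a680e60ebf8efb7cccaf0ada748a9e86b96c488e0298640ca3cfb9a012d0535e99d2547256dbcc27eeb1e20358736713990ae7c23ad5edde0c494fbf4aa9600a6d4568a7c1b3b2d548bfc02e3271741ed98f9e0596f9b6144a690649ebb8798268e3f7867d971c078ab8f4c894165fcd06e0b3768754732f91be9a0871042a7b1fcceb51a5e70adaddc6f0b735a61803b23a71713af868e5d413361b79332a7c49ed960c4986afc2b122dc7977148fb723a1a9e4edf5140e55c7ed1e6f5d85fd9a4c4543cc162d4d01dc9201ae7b33ade4873161394bfcef9684aed5a5c4100bc33e5b0a253483b471f43cc1a4f5dacb7c4b8e04388285b9aeee3728d2f3856dfe675953d8530c0624c3c76570916eac3fab4f9911d0ddfa347a8a09df7f19d6fb4bda309cacf6354b425e62906208021c4142dcde7f5984ed58caf4efb784a9ec29860de7fd9c6f55a5ed184e5f7358b52507314831040ffbbcdeb38bdab49ca307b9ac5a928398a4188200000000000000000000000000000000000000000)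
  (Nat.mul 5 (Nat.add (Nat.mul 32 (Nat.mod a 32)) (Nat.mod b 32)))) 32
def fa32 (a b : ℕ) : ℕ := Nat.mod (Nat.xor (Nat.mod a 32) (Nat.mod b 32)) 32

namespace F32

instance instDecEq : DecidableEq F32 := inferInstanceAs (DecidableEq (Fin 32))
instance instFintype : Fintype F32 := inferInstanceAs (Fintype (Fin 32))
def mk (k : ℕ) : F32 := Fin.ofNat 32 k
def val (a : F32) : ℕ := Fin.val (n := 32) a
instance instAdd : Add F32 := ⟨fun a b => mk (fa32 a.val b.val)⟩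
instance instMul : Mul F32 := ⟨fun a b => mk (fm32 a.val b.val)⟩
instance instNeg : Neg F32 := ⟨fun a => a⟩
instance instInv : _root_.Inv F32 := ⟨fun a => mk (Nat.shiftRight 0xdd263fd5512a35ee8b0b699e78649663ae9e4820 (Nat.mul 5 a.val))⟩
instance instZero : Zero F32 := ⟨mk 0⟩
instance instOne : One F32 := ⟨mk 1⟩

theorem all3 {f g : ℕ → ℕ → ℕ → ℕ} (h : allR (fun a => allR (fun b => allR (fun c => Nat.beq (f a b c) (g a b c)) 32) 32) 32 = true)
    (a b c : F32) : mk (f a.val b.val c.val) = mk (g a.val b.val c.val) :=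
  congrArg mk (beq_iff.1 (allR_eq_true.1 (allR_eq_true.1 (allR_eq_true.1 h _ (Fin.isLt a)) _ (Fin.isLt b)) _ (Fin.isLt c)))

instance instField : Field F32 :=
  Field.ofMinimalAxioms F32
    (all3 (f := fun a b c => fa32 (fa32 a b % 32) c) (g := fun a b c => fa32 a (fa32 b c % 32)) (by decide +kernel))
    (by decide +kernel) (by decide +kernel)
    (all3 (f := fun a b c => fm32 (fm32 a b % 32) c) (g := fun a b c => fm32 a (fm32 b c % 32)) (by decide +kernel))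
    (by decide +kernel) (by decide +kernel) (by decide +kernel) (by decide +kernel)
    (all3 (f := fun a b c => fm32 a (fa32 b c % 32)) (g := fun a b c => fa32 (fm32 a b % 32) (fm32 a c % 32)) (by decide +kernel))
    ⟨0, 1, by decide +kernel⟩

theorem card : Fintype.card F32 = 32 := Fintype.card_fin 32

end F32

theorem mod_eq (a b : ℕ) : Nat.mod a b = a % b := rfl

def mu32 : ℕ → ℕ → ℕ := m2 fm32 fa32
def t32 : ℕ → Matrix (Fin 2) (Fin 2) F32 := t2 F32.mk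

theorem t32_mul (A B : ℕ) : t32 (mu32 A B) = t32 A * t32 B :=
  t2_mul (fun a b => congrArg F32.mk (show fm32 a b = fm32 (a % 32) (b % 32) by simp only [fm32, mod_eq, Nat.mod_mod]))
    (fun a b => congrArg F32.mk (show fa32 a b = fa32 (a % 32) (b % 32) by simp only [fa32, mod_eq, Nat.mod_mod]))
    (fun a b => (Nat.mod_lt _ (by norm_num : 0 < 32)).trans (by norm_num)) A B

def cd32 : Cd (ProjectiveSpecialLinearGroup (Fin 2) F32) mu32 0x1000001 ok2 :=
  cdQ (slToMat 2 F32) Subtype.val_injective t32 t32_mul (by decide +kernel) (t2_ok rfl)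

theorem in32 {A : ℕ} (h : (t32 A).det = 1) : ∃ k, slToMat 2 F32 k = t32 A := ⟨⟨_, h⟩, rfl⟩

/-! The field with 121 elements. -/

abbrev F121 : Type := QuadraticAlgebra (ZMod 11) (-1) 0

instance factF121 : Fact (∀ r : ZMod 11, r ^ 2 ≠ -1 + 0 * r) := ⟨by decide⟩
instance fact11 : Fact (Nat.Prime 11) := ⟨by norm_num⟩
instance fintypeF121 : Fintype F121 := Fintype.ofEquiv _ (QuadraticAlgebra.equivProd (-1 : ZMod 11) 0).symm

theorem fq121 : Agent.Unit.FQ F121 11 := Agent.Unit.fq_QA (-1 : ZMod 11) 0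

def p121 (a : ℕ) : F121 := ⟨(Nat.mod a 16 : ℕ), (Nat.div a 16 : ℕ)⟩
def c121 (a b : ℕ) : ℕ := Nat.add (Nat.mod a 11) (Nat.mul 16 (Nat.mod b 11))
def fm121 (a b : ℕ) : ℕ := force (Nat.mod a 16) fun a0 => force (Nat.div a 16) fun a1 => force (Nat.mod b 16) fun b0 =>
  force (Nat.div b 16) fun b1 =>
    c121 (Nat.add (Nat.mul a0 b0) (Nat.mul 10 (Nat.mul a1 b1))) (Nat.add (Nat.mul a0 b1) (Nat.mul a1 b0))
def fa121 (a b : ℕ) : ℕ := force a fun a => force b fun b =>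
  c121 (Nat.add (Nat.mod a 16) (Nat.mod b 16)) (Nat.add (Nat.div a 16) (Nat.div b 16))

theorem p_c121 (a b : ℕ) : p121 (c121 a b) = ⟨a, b⟩ := by
  have e1 : Nat.mod (c121 a b) 16 = a % 11 := by show (a % 11 + 16 * (b % 11)) % 16 = _; omega
  have e2 : Nat.div (c121 a b) 16 = b % 11 := by show (a % 11 + 16 * (b % 11)) / 16 = _; omega
  rw [p121, e1, e2, ZMod.natCast_mod, ZMod.natCast_mod]

def mu121 : ℕ → ℕ → ℕ := m3 fm121 fa121
def t121 : ℕ → Matrix (Fin 3) (Fin 3) F121 := t3 p121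

theorem t121_mul (A B : ℕ) : t121 (mu121 A B) = t121 A * t121 B :=
  t3_mul (fun a b => by
      simp only [fm121, force_eq, p_c121]
      ext <;> simp [p121]
      exact mul_eq_mul_right_iff.2 (.inl (by decide : (10 : ZMod 11) = -1)) |>.trans (neg_one_mul _))
    (fun a b => by simp only [fa121, force_eq, p_c121]; ext <;> simp [p121])
    (fun a b => by simp only [fa121, force_eq, c121, Nat.add_eq, Nat.mul_eq, mod_eq]; omega) A B

def iSU : SU 3 F121 11 →* Matrix (Fin 3) (Fin 3) F121 := (slToMat 3 F121).comp (SU 3 F121 11).subtype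

def cd121 : Cd (PSU 3 F121 11) mu121 0x10000000100000001 ok3 :=
  cdQ iSU (Subtype.val_injective.comp Subtype.val_injective) t121 t121_mul (by decide +kernel) (t3_ok rfl)

theorem in121 {A : ℕ} (h : (t121 A).det = 1) (e : (t121 A)ᵀ * (t121 A).map star = 1) : ∃ k, iSU k = t121 A := by
  have a : ∀ u v, hermForm 3 F121 11 u v = u ⬝ᵥ star v := fun u v => by
    simp only [hermForm, ← fq121.star_eq]; rfl
  refine ⟨⟨⟨_, h⟩, fun u v => ?_⟩, rfl⟩
  change hermForm 3 F121 11 (t121 A *ᵥ u) (t121 A *ᵥ v) = _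
  rw [a, a, show star (t121 A *ᵥ v) = (t121 A).map star *ᵥ star v from
    funext fun i => RingHom.map_mulVec (starRingEnd F121) _ v i, dotProduct_mulVec, vecMul_mulVec, e, vecMul_one]

end

theorem realizeEqns_J4yCod : True := by
  have := @CA.J4y.t3.eq_1.{0}
  have := @CA.J4y.t3.eq_def.{0}
  have := @CA.J4y.t3.congr_simp.{0}
  have := @CA.J4y.iSU.eq_1
  have := @CA.J4y.iSU.eq_def
  have := @CA.J4y.iSU.congr_simp
  have := @CA.J4y.d3.eq_1
  have := @CA.J4y.d3.eq_def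
  have := @CA.J4y.d3.congr_simp
  have := @CA.J4y.mu32.eq_1
  have := @CA.J4y.mu32.eq_def
  have := @CA.J4y.mu32.congr_simp
  have := @CA.J4y.cd23.eq_1
  have := @CA.J4y.cd23.eq_def
  have := @CA.J4y.cd23.congr_simp
  have := @CA.J4y.t23.eq_1
  have := @CA.J4y.t23.eq_def
  have := @CA.J4y.t23.congr_simp
  have := @CA.J4y.F121.eq_1
  have := @CA.J4y.F121.eq_def
  have := @CA.J4y.F121.congr_simp
  have := @CA.J4y.t121.eq_1
  have := @CA.J4y.t121.eq_def
  have := @CA.J4y.t121.congr_simp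
  have := @CA.J4y.pk.eq_1
  have := @CA.J4y.pk.eq_def
  have := @CA.J4y.pk.congr_simp
  have := @CA.J4y.fa23.eq_1
  have := @CA.J4y.fa23.eq_def
  have := @CA.J4y.fa23.congr_simp
  have := @CA.J4y.mu121.eq_1
  have := @CA.J4y.mu121.eq_def
  have := @CA.J4y.mu121.congr_simp
  have := @CA.J4y.fa32.eq_1
  have := @CA.J4y.fa32.eq_def
  have := @CA.J4y.fa32.congr_simp
  have := @CA.J4y.p121.eq_1
  have := @CA.J4y.p121.eq_def
  have := @CA.J4y.p121.congr_simp
  have := @CA.J4y.F32.mk.eq_1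
  have := @CA.J4y.F32.mk.eq_def
  have := @CA.J4y.F32.mk.congr_simp
  have := @CA.J4y.m3.eq_1
  have := @CA.J4y.m3.eq_def
  have := @CA.J4y.m3.congr_simp
  have := @CA.J4y.c121.eq_1
  have := @CA.J4y.c121.eq_def
  have := @CA.J4y.c121.congr_simp
  have := @CA.J4y.e8.eq_1
  have := @CA.J4y.e8.eq_def
  have := @CA.J4y.e8.congr_simp
  have := @CA.J4y.F32.val.eq_1
  have := @CA.J4y.F32.val.eq_def
  have := @CA.J4y.F32.val.congr_simp
  have := @CA.J4y.m2.eq_1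
  have := @CA.J4y.m2.eq_def
  have := @CA.J4y.m2.congr_simp
  have := @CA.J4y.cdQ.eq_1.{0,0,0}
  have := @CA.J4y.cdQ.eq_def.{0,0,0}
  have := @CA.J4y.cdQ.congr_simp.{0,0,0}
  have := @CA.J4y.mu23.eq_1
  have := @CA.J4y.mu23.eq_def
  have := @CA.J4y.mu23.congr_simp
  have := @CA.J4y.fm32.eq_1
  have := @CA.J4y.fm32.eq_def
  have := @CA.J4y.fm32.congr_simp
  have := @CA.J4y.t2.eq_1.{0}
  have := @CA.J4y.t2.eq_def.{0}
  have := @CA.J4y.t2.congr_simp.{0}
  have := @CA.J4y.cd121.eq_1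
  have := @CA.J4y.cd121.eq_def
  have := @CA.J4y.cd121.congr_simp
  have := @CA.J4y.pwC.eq_1
  have := @CA.J4y.pwC.eq_def
  have := @CA.J4y.pwC.congr_simp
  have := @CA.J4y.fm121.eq_1
  have := @CA.J4y.fm121.eq_def
  have := @CA.J4y.fm121.congr_simp
  have := @CA.J4y.fa121.eq_1
  have := @CA.J4y.fa121.eq_def
  have := @CA.J4y.fa121.congr_simp
  have := @CA.J4y.F32.eq_1
  have := @CA.J4y.F32.eq_def
  have := @CA.J4y.F32.congr_simp
  have := @CA.J4y.cd32.eq_1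
  have := @CA.J4y.cd32.eq_def
  have := @CA.J4y.cd32.congr_simp
  have := @CA.J4y.t32.eq_1
  have := @CA.J4y.t32.eq_def
  have := @CA.J4y.t32.congr_simp
  have := @CA.J4y.ordC.eq_1
  have := @CA.J4y.ordC.eq_def
  have := @CA.J4y.ordC.congr_simp
  have := @CA.J4y.ok2.eq_1
  have := @CA.J4y.ok2.eq_def
  have := @CA.J4y.ok2.congr_simp
  have := @CA.J4y.d2.eq_1
  have := @CA.J4y.d2.eq_def
  have := @CA.J4y.d2.congr_simp
  have := @CA.J4y.ok3.eq_1
  have := @CA.J4y.ok3.eq_def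
  have := @CA.J4y.ok3.congr_simp
  trivial

end CA.J4y
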